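/-
Finite projective modules over a ring that is simple Artinian modulo its radical.
-/
import Mathlib.RingTheory.SimpleModule.WedderburnArtin
import Mathlib.RingTheory.Jacobson.Radical
import Mathlib.RingTheory.Length
import Mathlib.LinearAlgebra.Projection
import Mathlib.Algebra.Module.Projective

set_option autoImplicit false

universe u v

namespace Groth.Agent.SimpleTop3

variable {A : Type u} [Ring A] {M N : Type v} [AddCommGroup M] [Module A M] [AddCommGroup N] [Module A N]

/-- `J M`. -/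
abbrev rad (A : Type u) [Ring A] (M : Type v) [AddCommGroup M] [Module A M] : Submodule A M :=
  Ring.jacobson A • (⊤ : Submodule A M)

theorem map_rad (f : M →ₗ[A] N) : (rad A M).map f ≤ rad A N := by
  rw [Submodule.map_le_iff_le_comap, Submodule.smul_le]
  intro r hr m _
  rw [Submodule.mem_comap, map_smul]
  exact Submodule.smul_mem_smul hr trivial

/-- The map on tops. -/
def top (f : M →ₗ[A] N) : (M ⧸ rad A M) →ₗ[A] (N ⧸ rad A N) :=
  Submodule.mapQ _ _ f (Submodule.map_le_iff_le_comap.1 (map_rad f))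

@[simp] theorem top_mk (f : M →ₗ[A] N) (m : M) :
    top f (Submodule.Quotient.mk m) = Submodule.Quotient.mk (f m) := Submodule.mapQ_apply _ _ _ _

theorem eq_top_of_sup_rad [Module.Finite A M] (P : Submodule A M) (h : P ⊔ rad A M = ⊤) : P = ⊤ := by
  have h1 : (⊤ : Submodule A (M ⧸ P)) ≤ rad A (M ⧸ P) := by
    have := congrArg (Submodule.map P.mkQ) h
    rw [Submodule.map_sup, Submodule.map_top, Submodule.range_mkQ,
      (Submodule.map_eq_bot P.mkQ).2 (Submodule.ker_mkQ P).ge, bot_sup_eq] at this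
    rw [← this]
    exact map_rad _
  have h2 : (⊤ : Submodule A (M ⧸ P)) = ⊥ := Submodule.FG.eq_bot_of_le_jacobson_smul Module.Finite.fg_top h1
  refine Submodule.eq_top_iff'.2 fun m => ?_
  have : P.mkQ m ∈ (⊥ : Submodule A (M ⧸ P)) := h2 ▸ trivial
  rwa [Submodule.mem_bot, Submodule.mkQ_apply, Submodule.Quotient.mk_eq_zero] at this
where
  Submodule.map_eq_bot {M₂ : Type v} [AddCommGroup M₂] [Module A M₂] (f : M →ₗ[A] M₂) {p : Submodule A M} :
      p.map f = ⊥ ↔ p ≤ LinearMap.ker f := by
    rw [← le_bot_iff, Submodule.map_le_iff_le_comap]; rfl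

theorem surjective_of_top [Module.Finite A N] (f : M →ₗ[A] N) (h : Function.Surjective (top f)) :
    Function.Surjective f := by
  refine LinearMap.range_eq_top.1 (eq_top_of_sup_rad _ (Submodule.eq_top_iff'.2 fun n => ?_))
  obtain ⟨z, hz⟩ := h (Submodule.Quotient.mk n)
  obtain ⟨m, rfl⟩ := Submodule.Quotient.mk_surjective _ z
  rw [top_mk, Submodule.Quotient.eq] at hz
  exact Submodule.mem_sup.2 ⟨f m, ⟨m, rfl⟩, n - f m, by simpa using neg_mem hz, by abel⟩

theorem bijective_of_top [Module.Finite A M] [Module.Finite A N] [Module.Projective A N] (f : M →ₗ[A] N)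
    (h : Function.Bijective (top f)) : Function.Bijective f := by
  have hs := surjective_of_top f h.2
  obtain ⟨s, hsf⟩ := Module.projective_lifting_property f LinearMap.id hs
  refine ⟨?_, hs⟩
  have hsurj : Function.Surjective s := by
    refine surjective_of_top s fun z => ?_
    obtain ⟨m, rfl⟩ := Submodule.Quotient.mk_surjective _ z
    refine ⟨Submodule.Quotient.mk (f m), h.1 ?_⟩
    rw [top_mk, top_mk, top_mk]
    exact congrArg _ (LinearMap.congr_fun hsf (f m))
  intro a b hab
  obtain ⟨a', rfl⟩ := hsurj a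
  obtain ⟨b', rfl⟩ := hsurj b
  have e := fun c => LinearMap.congr_fun hsf c
  simp only [LinearMap.comp_apply, LinearMap.id_apply] at e
  rw [e, e] at hab
  rw [hab]

theorem exists_top_eq [Module.Projective A M] (g : (M ⧸ rad A M) →ₗ[A] (N ⧸ rad A N)) :
    ∃ f : M →ₗ[A] N, top f = g := by
  obtain ⟨f, hf⟩ := Module.projective_lifting_property (rad A N).mkQ (g ∘ₗ (rad A M).mkQ) (Submodule.mkQ_surjective _)
  refine ⟨f, Submodule.linearMap_qext _ (LinearMap.ext fun m => ?_)⟩
  simp only [LinearMap.comp_apply, Submodule.mkQ_apply, top_mk]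
  exact LinearMap.congr_fun hf m

theorem nonempty_equiv_of_top [Module.Finite A M] [Module.Finite A N] [Module.Projective A M] [Module.Projective A N]
    (e : (M ⧸ rad A M) ≃ₗ[A] (N ⧸ rad A N)) : Nonempty (M ≃ₗ[A] N) := by
  obtain ⟨f, hf⟩ := exists_top_eq e.toLinearMap
  exact ⟨LinearEquiv.ofBijective f (bijective_of_top f (hf ▸ e.bijective))⟩

section Isotypic

theorem isotypic_pi {S : Type*} [AddCommGroup S] [Module A S] {X : Type v} [AddCommGroup X] [Module A X]
    (h : IsIsotypicOfType A X S) (ι : Type*) [Fintype ι] : IsIsotypicOfType A (ι → X) S := by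
  intro m hm
  obtain ⟨i, hi⟩ : ∃ i, (LinearMap.proj i).domRestrict m ≠ 0 := by
    by_contra hc
    simp only [not_exists, not_not] at hc
    haveI := IsSimpleModule.nontrivial A m
    obtain ⟨x, hx⟩ := exists_ne (0 : m)
    exact hx (Subtype.ext (funext fun i => LinearMap.congr_fun (hc i) x))
  have hinj : Function.Injective ((LinearMap.proj i).domRestrict m : m →ₗ[A] X) :=
    (LinearMap.injective_or_eq_zero _).resolve_right hi
  haveI : IsSimpleModule A (LinearMap.range ((LinearMap.proj i).domRestrict m : m →ₗ[A] X)) :=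
    IsSimpleModule.congr (LinearEquiv.ofInjective _ hinj).symm
  obtain ⟨e⟩ := h (LinearMap.range ((LinearMap.proj i).domRestrict m : m →ₗ[A] X))
  exact ⟨(LinearEquiv.ofInjective _ hinj).trans e⟩

variable [IsSimpleRing (A ⧸ Ring.jacobson A)] [IsArtinianRing (A ⧸ Ring.jacobson A)]

theorem isSemisimple_top : IsSemisimpleModule A (A ⧸ Ring.jacobson A) := by
  let l : (A ⧸ Ring.jacobson A) →ₛₗ[Ideal.Quotient.mk (Ring.jacobson A)] (A ⧸ Ring.jacobson A) :=
    { toFun := id, map_add' := fun _ _ => rfl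
      map_smul' := fun r x => by obtain ⟨y, rfl⟩ := Ideal.Quotient.mk_surjective x; rfl }
  haveI : RingHomSurjective (Ideal.Quotient.mk (Ring.jacobson A)) := ⟨Ideal.Quotient.mk_surjective⟩
  exact (l.isSemisimpleModule_iff_of_bijective Function.bijective_id).2 inferInstance

theorem exists_isotypic_top :
    ∃ (S : Submodule A (A ⧸ Ring.jacobson A)), IsSimpleModule A S ∧
      IsIsotypicOfType A (A ⧸ Ring.jacobson A) S := by
  haveI := isSemisimple_top (A := A)
  haveI : RingHomSurjective (Ideal.Quotient.mk (Ring.jacobson A)) := ⟨Ideal.Quotient.mk_surjective⟩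
  let l : (A ⧸ Ring.jacobson A) →ₛₗ[Ideal.Quotient.mk (Ring.jacobson A)] (A ⧸ Ring.jacobson A) :=
    { toFun := id, map_add' := fun _ _ => rfl
      map_smul' := fun r x => by obtain ⟨y, rfl⟩ := Ideal.Quotient.mk_surjective x; rfl }
  let lift : Submodule A (A ⧸ Ring.jacobson A) → Submodule (A ⧸ Ring.jacobson A) (A ⧸ Ring.jacobson A) := fun m =>
    m.map l
  have hs : ∀ (m : Submodule A (A ⧸ Ring.jacobson A)), IsSimpleModule A m →
      IsSimpleModule (A ⧸ Ring.jacobson A) (lift m) := fun m hm => by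
    rw [isSimpleModule_iff_isAtom] at hm ⊢
    exact ((Submodule.orderIsoMapComapOfBijective l Function.bijective_id).isAtom_iff m).2 hm
  obtain ⟨S, hS⟩ := IsSemisimpleModule.exists_simple_submodule A (A ⧸ Ring.jacobson A)
  refine ⟨S, hS, fun m hm => ?_⟩
  haveI := hs m hm
  haveI := hs S hS
  obtain ⟨e⟩ := IsSimpleRing.isIsotypic (A ⧸ Ring.jacobson A) (A ⧸ Ring.jacobson A) (lift S) (lift m)
  have key : ∀ (T : Submodule A (A ⧸ Ring.jacobson A)) (x : T), (x : A ⧸ Ring.jacobson A) ∈ lift T := fun T x =>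
    ⟨x, x.2, rfl⟩
  have key2 : ∀ (T : Submodule A (A ⧸ Ring.jacobson A)) (x : lift T), (x : A ⧸ Ring.jacobson A) ∈ T := fun T x => by
    obtain ⟨y, hy, hxy⟩ := x.2
    rw [← hxy]; exact hy
  refine ⟨LinearEquiv.ofBijective
    ({ toFun := fun x => ⟨(e ⟨x, key m x⟩ : A ⧸ Ring.jacobson A), key2 S _⟩
       map_add' := fun x y => Subtype.ext (by
         change (e ⟨((x + y : m) : A ⧸ Ring.jacobson A), key m (x + y)⟩ : A ⧸ Ring.jacobson A) =
           ((e ⟨x, key m x⟩ + e ⟨y, key m y⟩ : lift S) : A ⧸ Ring.jacobson A)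
         rw [← e.map_add]; rfl)
       map_smul' := fun r x => Subtype.ext ?_ } : m →ₗ[A] S) ⟨fun x y hxy => ?_, fun y => ?_⟩⟩
  · have h1 := e.map_smul (Ideal.Quotient.mk (Ring.jacobson A) r) ⟨x, key m x⟩
    have h2 : (⟨((r • x : m) : A ⧸ Ring.jacobson A), key m (r • x)⟩ : lift m) =
        Ideal.Quotient.mk (Ring.jacobson A) r • ⟨x, key m x⟩ :=
      Subtype.ext (l.map_smulₛₗ r (x : A ⧸ Ring.jacobson A))
    change (e ⟨((r • x : m) : A ⧸ Ring.jacobson A), key m (r • x)⟩ : A ⧸ Ring.jacobson A) = r • (e ⟨x, key m x⟩ : A ⧸ Ring.jacobson A)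
    rw [h2, h1]
    exact (l.map_smulₛₗ r ((e ⟨x, key m x⟩ : lift S) : A ⧸ Ring.jacobson A)).symm
  · exact Subtype.ext (congrArg Subtype.val (e.injective (Subtype.ext (congrArg Subtype.val hxy :))) :)
  · obtain ⟨x, hx⟩ := e.surjective ⟨y, key S y⟩
    exact ⟨⟨x, key2 m x⟩, Subtype.ext (show (e x : A ⧸ Ring.jacobson A) = y by rw [hx])⟩

theorem top_structure {S : Submodule A (A ⧸ Ring.jacobson A)}
    (hS : IsIsotypicOfType A (A ⧸ Ring.jacobson A) S) [Module.Finite A M] :
    ∃ n : ℕ, Nonempty ((M ⧸ rad A M) ≃ₗ[A] (Fin n → S)) ∧ IsSemisimpleModule A (M ⧸ rad A M) := by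
  classical
  haveI := isSemisimple_top (A := A)
  obtain ⟨k, x, hx⟩ := Module.Finite.exists_fin (R := A) (M := M ⧸ rad A M)
  let c : Fin k → ((A ⧸ Ring.jacobson A) →ₗ[A] M ⧸ rad A M) := fun i =>
    Submodule.liftQ _ (LinearMap.toSpanSingleton A _ (x i)) fun j hj => by
      obtain ⟨m, hm⟩ := Submodule.Quotient.mk_surjective _ (x i)
      rw [LinearMap.mem_ker, LinearMap.toSpanSingleton_apply, ← hm, ← Submodule.Quotient.mk_smul,
        Submodule.Quotient.mk_eq_zero]
      exact Submodule.smul_mem_smul hj trivial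
  let g : (Fin k → A ⧸ Ring.jacobson A) →ₗ[A] M ⧸ rad A M := LinearMap.lsum A _ ℕ c
  have hg : Function.Surjective g := by
    rw [← LinearMap.range_eq_top, ← top_le_iff, ← hx, Submodule.span_le]
    rintro _ ⟨i, rfl⟩
    exact ⟨Pi.single i (Submodule.Quotient.mk 1), by
      simp only [g, LinearMap.lsum_piSingle, c, Submodule.liftQ_apply, LinearMap.toSpanSingleton_apply, one_smul]⟩
  obtain ⟨C, hC⟩ := exists_isCompl (LinearMap.ker g)
  let e : C ≃ₗ[A] (M ⧸ rad A M) :=
    (Submodule.quotientEquivOfIsCompl _ C hC).symm.trans (g.quotKerEquivOfSurjective hg)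
  haveI hss : IsSemisimpleModule A (M ⧸ rad A M) := e.isSemisimpleModule_iff.1 inferInstance
  have hiso : IsIsotypicOfType A (M ⧸ rad A M) S :=
    IsIsotypicOfType.of_injective (isotypic_pi hS (Fin k)) (C.subtype ∘ₗ e.symm.toLinearMap)
      (C.injective_subtype.comp e.symm.injective)
  obtain ⟨n, hn⟩ := hiso.linearEquiv_fun
  exact ⟨n, hn, hss⟩

end Isotypic

theorem le_of_endHom {X Y : Type*} [AddCommGroup X] [Module A X] [AddCommGroup Y] [Module A Y]
    (φ : Module.End A X →+* Module.End A Y) (hφ : Function.Injective φ) {n : ℕ}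
    (p : Fin n → Module.End A X) (hp : ∀ i j, p i * p j = if i = j then p i else 0) (hp0 : ∀ i, p i ≠ 0) :
    (n : ℕ∞) ≤ Module.length A Y := by
  classical
  let q := fun i => φ (p i)
  have hq : ∀ i j, q i * q j = if i = j then q i else 0 := fun i j => by
    simp only [q]; rw [← map_mul, hp]; split_ifs <;> simp
  let g : ((i : Fin n) → LinearMap.range (q i)) →ₗ[A] Y :=
    LinearMap.lsum A _ ℕ fun i => (LinearMap.range (q i)).subtype
  have hg : Function.Injective g := by
    refine (injective_iff_map_eq_zero _).2 fun z hz => funext fun j => Subtype.ext ?_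
    have h1 : ∀ i, (q j) (z i : Y) = if j = i then (z i : Y) else 0 := fun i => by
      obtain ⟨w, hw⟩ := (z i).2
      rw [← hw, ← Module.End.mul_apply, hq]
      split_ifs with h
      · rw [h]
      · rfl
    have h2 := congrArg (q j) hz
    simp only [g, LinearMap.lsum_apply, LinearMap.sum_apply, LinearMap.comp_apply, LinearMap.proj_apply, map_sum,
      map_zero, Submodule.subtype_apply, h1, Finset.sum_ite_eq, Finset.mem_univ, if_true] at h2
    exact h2
  refine le_trans ?_ (Module.length_le_of_injective g hg)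
  rw [Module.length_pi_of_fintype]
  calc (n : ℕ∞) = ∑ _i : Fin n, (1 : ℕ∞) := by simp
    _ ≤ _ := Finset.sum_le_sum fun i _ => by
      refine Order.one_le_iff_pos.2 (pos_iff_ne_zero.2 ?_)
      rw [Ne, Module.length_eq_zero_iff, Submodule.subsingleton_iff_eq_bot, LinearMap.range_eq_bot]
      exact fun h => hp0 i (hφ (h.trans (map_zero φ).symm))

theorem projPi {S : Type*} [AddCommGroup S] [Module A S] {n : ℕ} {X : Type*} [AddCommGroup X] [Module A X]
    [Nontrivial S] (e : X ≃ₗ[A] (Fin n → S)) :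
    ∃ p : Fin n → Module.End A X, (∀ i j, p i * p j = if i = j then p i else 0) ∧ ∀ i, p i ≠ 0 := by
  classical
  refine ⟨fun i => e.symm.toLinearMap ∘ₗ (LinearMap.single A (fun _ => S) i ∘ₗ LinearMap.proj i) ∘ₗ e.toLinearMap, fun i j => ?_, fun i h => ?_⟩
  · refine LinearMap.ext fun x => ?_
    split_ifs with hij
    · subst hij
      simp [Module.End.mul_apply]
    · simp [Module.End.mul_apply, Pi.single_eq_of_ne hij]
  · obtain ⟨s, hs⟩ := exists_ne (0 : S)
    have := LinearMap.congr_fun h (e.symm (Pi.single i s))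
    simp only [LinearMap.comp_apply, LinearEquiv.coe_coe, LinearEquiv.apply_symm_apply, LinearMap.proj_apply,
      Pi.single_eq_same, LinearMap.coe_single, LinearMap.zero_apply, LinearEquiv.map_eq_zero_iff, Pi.single_eq_zero_iff] at this
    exact hs this

end Groth.Agent.SimpleTop3
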